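import Cfsg.Agent.HNC.Bound
import Cfsg.Agent.HNC.Tabs

set_option autoImplicit false
set_option Elab.async false
set_option maxRecDepth 100000
set_option linter.all false

namespace Cfsg.Agent.HNC
open Cfsg.Agent.CGT

noncomputable def c_l0 : Level := ⟨0, [[0], [2], [4], [6], [8]], [0, 3, 4, 1, 0, 1, 4, 2, 1, 0, 4, 1, 2, 4, 0, 2, 4], 0xffffffffffffffffffffffffffffffffffffffffffffffffffffffffffffffffffffffffffffffffffffffffffffffffffffffffffffffffffffffffffffffffffffffffffffffffffffffffffffffffffffffffffffffffffffffffffffffffffffffffffffffffffffffffffffffffffffffffffffffffffffffffffffffffffffffffffffffffffffffffffffffffffffffffffffffffffffffffffffffffffffffffffffffffffffffffffffffff, 1408⟩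
noncomputable def c_l1 : Level := ⟨4, [[2], [1, 2, 0]], [0, 0, 0, 1, 0, 0, 0, 1, 0, 0, 1, 0, 0], 0x800000000000000000000000000000000400000000200000000000000000000000000010000000000048000000000000000000002000000000000000000000000000000000000000400100000000004800000000000402000050000000020001000000000000000000000000000000000000000000000004010000008610c00000000000806000000000000100000400000000000008800086110081000000222c4400710, 50⟩
noncomputable def c_l2 : Level := ⟨8, [[1, 3, 0, 3, 3, 1, 3, 0, 1, 3, 0, 3, 1, 2, 0, 2], [1, 3, 0, 2, 2, 1, 3, 0, 1, 3, 0, 2]], [1, 0, 1, 0, 1, 0, 1, 1, 0, 1], 0x400000000200000000000000000000000000010000000000048000000000000000000002000000000000000000000000000000000000000400100000000004800000000000402000050000000020001000000000000000000000000000000000000000000000000000000008210800000000000804000000000000100000400000000000008800084110081000000222c4400700, 42⟩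
noncomputable def c_l3 : Level := ⟨9, [[1, 3, 0, 1, 3, 0, 2, 2, 1, 3, 0, 3, 3, 1, 2, 0, 1, 2, 0, 3], [1, 2, 0, 2, 1, 2, 0, 2]], [1, 0, 1, 0, 1, 0, 1, 0, 1], 0x400000000000000000000000000000000000010000000000048000000000000000000002000000000000000000000000000000000000000400000000000004800000000000000000050000000020000000000000000000000000000000000000000000000000000000000008210000000000000804000000000000100000000000000000000800004110081000000200c4400600, 30⟩
noncomputable def c_l4 : Level := ⟨10, [[1, 2, 0, 3, 1, 3, 0, 2, 1, 2, 0, 3, 1, 3, 0, 2]], [0], 0x4000000000000000000000000000000000000000000000000000000000000000000000000000000000000000000000000000000000000000000000000000000000000000000000000000400, 2⟩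
noncomputable def c_ls : List Level := [c_l0, c_l1, c_l2, c_l3, c_l4]
theorem c_l0_ok : (ptsOK 11 [] && (wordsIn [0, 2, 4, 6, 8] c_l0.S && c_l0.ok 11 m_ns m_ts [])) = true := by decide +kernel
theorem c_l1_ok : (ptsOK 11 [0] && (wordsIn [0, 2, 4, 6, 8] c_l1.S && c_l1.ok 11 m_ns m_ts [0])) = true := by decide +kernel
theorem c_l2_ok : (ptsOK 11 [4, 0] && (wordsIn [0, 2, 4, 6, 8] c_l2.S && c_l2.ok 11 m_ns m_ts [4, 0])) = true := by decide +kernel
theorem c_l3_ok : (ptsOK 11 [8, 4, 0] && (wordsIn [0, 2, 4, 6, 8] c_l3.S && c_l3.ok 11 m_ns m_ts [8, 4, 0])) = true := by decide +kernel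
theorem c_l4_ok : (ptsOK 11 [9, 8, 4, 0] && (wordsIn [0, 2, 4, 6, 8] c_l4.S && c_l4.ok 11 m_ns m_ts [9, 8, 4, 0])) = true := by decide +kernel
theorem c_sound {G : Type*} [Group G] {φ : G →* Equiv.Perm ℕ} {γ : ℕ → G}
    (M : Model φ γ 11 m_ns m_ts) : ChainSound φ (gp γ [0, 2, 4, 6, 8]) 11 [] c_ls :=
  ⟨Level.ok_sound' M c_l0_ok,
   Level.ok_sound' M c_l1_ok,
   Level.ok_sound' M c_l2_ok,
   Level.ok_sound' M c_l3_ok,
   Level.ok_sound' M c_l4_ok, trivial⟩
/-- the group -/
abbrev K : Type := PG 5 RR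
/-- the generators -/
noncomputable abbrev γ : ℕ → K := pgγ 5 RR
theorem gen_top : gp γ [0, 2, 4, 6, 8] = ⊤ := pg_gen _ (by decide +kernel)
theorem cert : ∃ φ, Cert φ γ 11 m_ns m_ts [0, 2, 4, 6, 8] c_ls := by
  obtain ⟨φ, hφ⟩ := pg_perm (m := 5) (ns := m_ns) rfl m_p
  have M : Model φ γ 11 m_ns m_ts := ⟨m_v, hφ, m_ts_ok⟩
  exact ⟨φ, Cert.of_bound M gen_top (c_sound M) ((bd0 (pg_holds _ _)).top gen_top) (by decide +kernel)⟩
theorem card_eq : Nat.card K = 177408000 := by
  obtain ⟨φ, C⟩ := cert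
  exact C.card.trans (by decide +kernel)
noncomputable def LW : List (List ℕ) := [[2], [1, 2, 0]]
theorem stab {G : Type*} [Group G] {φ : G →* Equiv.Perm ℕ} {γ : ℕ → G} (C : Cert φ γ 11 m_ns m_ts [0, 2, 4, 6, 8] c_ls) :
    ∀ h, φ h 0 = 0 → h ∈ gw γ LW :=
  C.stab_le (ls' := [c_l1, c_l2, c_l3, c_l4]) (chain_gw C.M (Ws := [[0], [2], [3, 1, 1, 3, 3, 1, 2, 0], [3, 0, 0, 3, 3, 0], [3, 3, 0, 0, 3, 1, 1, 2, 2, 1], [2, 0, 2, 0], [2, 1, 3, 0, 2, 1, 3, 0]]) (by decide +kernel) (by decide +kernel)) le_rfl (by decide +kernel)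

end Cfsg.Agent.HNC
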