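import Cfsg.Agent.HNC.Cert

set_option autoImplicit false
set_option Elab.async false
set_option maxRecDepth 100000
set_option linter.all false

namespace Cfsg.Agent.HNC
open Cfsg.Agent.CGT

noncomputable def dF0 : BT Fct := (.node 17 (.node 8 (.node 4 (.node 2 (.node 1 (.leaf ⟨0, 0, false, [0], [], []⟩) (.leaf ⟨0, 0, false, [2], [], []⟩)) (.node 1 (.leaf ⟨0, 0, false, [8], [], []⟩) (.leaf ⟨0, 1, true, [], [], []⟩))) (.node 2 (.node 1 (.leaf ⟨1, 1, false, [2], [], [1]⟩) (.leaf ⟨1, 1, true, [3, 4, 2, 4, 1, 4, 3, 0, 2, 0, 2, 4, 3], [2, 4, 3, 1, 3, 0, 2, 4, 0, 4, 3, 4, 2, 0], [3, 3, 1, 0, -1]⟩)) (.node 1 (.leaf ⟨1, 1, true, [4, 2, 4, 2, 0, 2, 0, 2, 0, 3, 4, 2], [3, 4, 2, 0, 3, 0, 2, 2, 0,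 2, 4, 2], [6, 4, 1, 0, -1]⟩) (.leaf ⟨1, 1, true, [8, 3, 4, 8, 3, 3, 4, 3, 0, 2, 4, 8, 0, 4, 3, 3], [3, 4, 8, 0, 3, 0, 2, 4, 8, 4, 2, 0, 3, 8, 3, 0, 2], [-2, -1, 1, 0, 0, -1]⟩)))) (.node 4 (.node 2 (.node 1 (.leaf ⟨1, 1, true, [0, 2, 0, 2, 4, 3, 4, 2, 1, 2, 4, 2, 2, 8, 0], [8, 2, 2, 0, 3, 1, 2, 0, 2, 4, 3, 4, 2, 0, 2, 4], [5, -9, 1, 0, 0, -1]⟩) (.leaf ⟨1, 1, false, [1, 2, 0, 3], [], [-12, 24, -3, 0, 0, 2]⟩)) (.node 1 (.leaf ⟨1, 2, true, [8, 1], [], []⟩) (.leaf ⟨2, 2, false, [0, 3, 0, 3, 4, 3, 0, 3, 0], [], [-23, 49, -6, 0, 0, 4]⟩))) (.node 2 (.node 1 (.leaf ⟨2, 2, false, [3, 1, 2, 0, 3], [], [21, -47, 6, 0, 0, -4]⟩) (.leaf ⟨2, 1, true, [3, 4, 2, 0, 3, 0, 3, 4, 3, 0, 2, 2, 0, 2, 2], [4,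 3, 0, 8, 2, 4, 8, 1, 4, 3, 8, 0, 4, 3, 3], [16, -31, 5, 0, -1, -3]⟩)) (.node 1 (.leaf ⟨2, 2, false, [6], [], [-15, 32, -6, 0, 1, 3]⟩) (.node 1 (.leaf ⟨2, 1, true, [0, 2, 8, 2, 0, 3, 4, 8, 4, 3, 0, 2, 2, 8, 3, 0, 2], [2, 8, 2, 0, 3, 4, 8, 4, 3, 0, 2, 2, 8, 3, 0, 2], [7, -3, 2, 0, -1, -1]⟩) (.leaf ⟨2, 2, false, [8, 6], [], [-5, -3, -3, 0, 1, 1]⟩)))))) (.node 8 (.node 4 (.node 2 (.node 1 (.leaf ⟨1, 3, true, [8, 0], [], []⟩) (.leaf ⟨3, 3, false, [3, 1, 2, 0, 3], [], [-15, 25, -3, 0, 0, 2]⟩)) (.node 1 (.leaf ⟨3, 3, false, [0, 2, 0, 2, 0, 3, 0, 3], [], []⟩) (.leaf ⟨3, 3, true, [3, 3, 0, 3, 0, 2, 2, 4, 3, 3, 0, 3, 4, 2, 0, 2], [3, 0, 2, 4, 2, 2, 1, 2, 4, 2, 2, 0, 2, 0, 2, 2], [-15, 24, -4, -1,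 1, 3]⟩))) (.node 2 (.node 1 (.leaf ⟨3, 1, true, [3, 4, 8, 4, 3, 8, 3, 0, 2, 8, 2, 4, 8, 0, 4, 0], [8, 4, 0, 2, 0, 3, 8, 3, 8, 3, 3, 8, 0, 2, 4, 8, 4], [11, -27, 5, 0, -1, -3]⟩) (.leaf ⟨3, 2, true, [2, 8, 4, 8, 2, 1, 2, 2, 4, 8, 3, 8, 0, 4, 0], [0, 4, 0, 8, 2, 8, 4, 3, 3, 1, 3, 8, 4, 8, 3], [-8, 6, 1, 0, -1]⟩)) (.node 1 (.leaf ⟨3, 3, false, [8, 1], [], [18, -31, 3, 0, 0, -2]⟩) (.leaf ⟨1, 4, true, [8, 3, 8], [], []⟩)))) (.node 4 (.node 2 (.node 1 (.leaf ⟨4, 4, true, [4, 2, 4, 2, 0, 2, 4, 0, 4, 2, 0, 2, 4, 2], [3, 1, 2, 0, 2, 0, 3, 4, 3, 0, 3, 4, 0], [0, -5, 1, 0, -1]⟩) (.leaf ⟨4, 4, false, [2, 0, 3, 4, 2, 0, 3, 4, 3, 0, 2, 2, 4, 0], [], [3, 8, -3, 0, 2]⟩)) (.node 1 (.leaf ⟨4, 1, true, [3,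 4, 8, 3, 1, 3, 8, 4, 8, 4, 8, 2, 4, 8], [8, 4, 2, 1, 3, 4, 0, 2, 4, 8, 2, 4, 3], [20, -20, 5, 0, 0, -4]⟩) (.leaf ⟨4, 4, false, [1, 3, 8, 2, 0], [], [-15, 21, -6, 0, 0, 4]⟩))) (.node 2 (.node 1 (.leaf ⟨4, 3, true, [2, 8, 2, 0, 3, 4, 3, 3, 8, 3, 4, 3, 8, 4, 1, 2], [4, 3, 4, 0, 3, 8, 1, 2, 8, 4, 8, 4, 8, 3, 8, 3], [-13, 26, -5, 0, 1, 2]⟩) (.leaf ⟨3, 4, true, [3, 8, 0, 3, 0, 4, 3, 4, 0, 2, 4, 3, 0, 2, 4, 0, 4], [3, 4, 2, 0, 8, 2, 2, 0, 2, 0, 2, 4, 3, 4, 0, 2], [43, -76, 10, 0, -1, -6]⟩)) (.node 1 (.leaf ⟨4, 1, true, [8, 4, 0, 4, 2, 8, 2, 8, 3, 3, 0, 2, 4, 8, 4, 8, 2], [2, 8, 0, 4, 2, 8, 4, 1, 2, 8, 2, 2, 4, 8, 3, 4], [1, -37, 8, 0, -2, -4]⟩) (.node 1 (.leaf ⟨4, 4, false, [8, 2, 8, 3, 4, 3,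 0, 3, 8, 4, 3, 0, 2, 4, 3, 4], [], [-24, 88, -15, 0, 2, 8]⟩) (.leaf ⟨3, 4, true, [3, 4, 2, 0, 4, 3, 4, 2, 0, 3, 0, 3, 0, 2, 8], [8, 3, 4, 3, 1, 3, 4, 3, 0, 3, 0, 3, 0], [-11, 23, -2, 0, 0, 1]⟩)))))))
noncomputable def dF34 : BT Fct := (.node 17 (.node 8 (.node 4 (.node 2 (.node 1 (.leaf ⟨3, 4, false, [8, 2, 2, 8, 3, 8, 4, 8, 4, 0, 4, 3, 8, 2], [], [-29, 36, -6, 0, -1, 5]⟩) (.leaf ⟨3, 1, true, [8, 2, 2, 8, 3, 8, 4, 8, 4, 1, 4, 3, 8, 2], [8, 2, 8, 6], [-29, 36, -7, 0, -1, 5]⟩)) (.node 1 (.leaf ⟨3, 3, true, [3, 4, 2, 0, 4, 3, 4, 2, 0, 3, 0, 3, 0, 2, 8], [2, 8, 2, 4, 3, 3, 8, 0, 4, 8, 2, 4, 2, 8, 2], [18, -13, 4, 0, 1, -4]⟩) (.leaf ⟨3, 3, true, [3, 8, 0, 3, 0, 4, 3, 4, 0, 2, 4, 3, 0, 2, 4,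 0, 4], [3, 3, 8, 2, 0, 3, 3, 8, 4, 2, 8, 0, 4, 3, 4, 8, 3], [72, -112, 16, 0, 0, -11]⟩))) (.node 2 (.node 1 (.leaf ⟨1, 3, true, [8, 3, 8], [4, 3, 8, 3, 3, 8, 0, 4, 8, 2, 8, 3, 3, 8], [29, -36, 6, 0, 1, -5]⟩) (.leaf ⟨2, 3, true, [8, 2, 0, 2, 0, 3, 3, 0, 2, 2, 0, 2, 8, 0, 4, 8, 4], [0, 2, 2, 1, 2, 4, 0, 4, 3, 4, 0, 2, 0], [-17, 66, -5, 0, 1, 2]⟩)) (.node 1 (.leaf ⟨2, 2, false, [4, 0, 2, 0, 2, 8, 0, 2, 4, 0, 4, 2, 0, 2, 4, 3], [], [26, -71, 3, 0, 0, -2]⟩) (.leaf ⟨1, 5, true, [8, 3, 8, 1], [], []⟩)))) (.node 4 (.node 2 (.node 1 (.leaf ⟨5, 5, false, [0, 2, 0, 2, 4, 0, 2, 0, 2], [], [15, -25, 3, 0, 0, -2]⟩) (.leaf ⟨5, 3, true, [4, 0, 4, 3, 3, 1, 3, 4, 3, 3, 0, 3, 4, 2], [8, 4, 3, 3, 0, 2, 8,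 2, 4, 8, 0, 2], [22, -37, 7, 0, 0, -5]⟩)) (.node 1 (.leaf ⟨5, 5, false, [2, 0, 2, 4, 0, 2, 0, 2, 0], [], [31, -50, 6, 0, 0, -4]⟩) (.leaf ⟨5, 5, false, [8, 0, 3, 8, 4, 2, 2, 1, 2, 8, 4, 8, 3, 4, 2, 2], [], [3, 1]⟩))) (.node 2 (.node 1 (.leaf ⟨5, 3, true, [2, 0, 3, 0, 2, 4, 3, 0, 3, 0, 3], [8, 4, 3, 0, 8, 3, 8, 3, 1, 2, 2, 4, 2, 0, 3, 0], [28, -37, 7, 0, 0, -5]⟩) (.leaf ⟨3, 5, true, [0, 2, 4, 0, 4, 3, 0, 2, 4, 8, 2, 4, 8, 0, 2], [2, 1, 2, 0, 2, 4, 3, 0, 2, 0, 3], [-16, 18, -5, 0, 0, 3]⟩)) (.node 1 (.leaf ⟨5, 5, true, [2, 4, 0, 4, 3, 1, 2, 0, 2, 4, 2, 0, 2, 4, 2, 0], [4, 2, 0, 3, 4, 2, 4, 0, 4, 3, 4, 0, 2, 4, 2], [-1, -7, 1, 0, -1]⟩) (.node 1 (.leaf ⟨5, 2, true, [8, 2, 2, 0, 3, 0, 3, 0, 3,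 4, 0, 4], [8, 4, 0, 3, 4, 2, 1, 3, 4, 2, 0, 3, 0, 2, 4], [30, -52, 7, 0, 0, -5]⟩) (.leaf ⟨2, 5, true, [3, 4, 0, 3, 0, 2, 4, 2, 2, 0, 2, 4, 0, 2, 8], [8, 4, 2, 2, 1, 3, 0, 3, 0, 3, 4, 0], [-72, 146, -20, 0, 0, 13]⟩)))))) (.node 9 (.node 4 (.node 2 (.node 1 (.leaf ⟨5, 3, true, [4, 2, 0, 2, 2, 0, 3, 4, 0, 2, 0, 3, 4, 3, 8], [4, 3, 4, 2, 0, 4, 3, 4, 8, 2, 2, 8, 1, 4, 2, 2, 8], [-20, 23, -2, 0, 0, 1]⟩) (.leaf ⟨3, 5, true, [2, 0, 2, 0, 2, 2, 4, 3, 0, 3, 4, 2, 0, 3, 8], [8, 4, 3, 4, 3, 1, 3, 0, 2, 4, 0, 2, 0, 3, 4], [50, -73, 7, 0, 0, -5]⟩)) (.node 1 (.leaf ⟨5, 5, false, [4, 2, 2, 1, 2, 4, 8, 4, 3, 4, 0, 2, 4], [], [13, -32, 3, 0, 0, -2]⟩) (.leaf ⟨5, 5, true, [3, 3, 0, 2, 0, 4, 2, 4, 8, 2, 1,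 2, 8, 0, 4, 8, 4], [8, 0, 2, 0, 3, 3, 1, 2, 4, 3, 4, 0, 2, 4, 0, 2], [8, -22, 4, 0, 0, -3]⟩))) (.node 2 (.node 1 (.leaf ⟨5, 5, true, [4, 2, 2, 0, 2, 1, 2, 4, 3, 3, 0, 3, 0, 2, 2, 8], [4, 2, 1, 2, 4, 3, 4, 0, 4, 8, 2, 8, 3, 8], [19, -31, 4, 0, 0, -3]⟩) (.leaf ⟨5, 5, false, [1, 2, 8, 2, 4, 3, 0, 2, 4, 3, 3, 0], [], [-32, 69, -9, 0, 1, 5]⟩)) (.node 1 (.leaf ⟨5, 5, true, [2, 4, 0, 4, 2, 2, 8, 1, 4, 3, 8, 4, 2, 2, 8, 0, 2], [4, 8, 2, 4, 0, 3, 4, 8, 3, 8, 2, 2, 8, 1, 3, 4, 2], [76, -168, 19, 0, -1, -12]⟩) (.node 1 (.leaf ⟨1, 6, true, [8, 3, 8, 3, 8], [], []⟩) (.leaf ⟨6, 6, false, [8, 2, 8, 4, 3, 8, 4, 2, 0, 3, 4, 8, 4], [], [39, -72, 9, 0, 0, -6]⟩))))) (.node 4 (.node 2 (.node 1 (.leaf ⟨6, 6,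 true, [1, 3, 4, 2, 0, 2, 4, 3, 4, 3, 0, 2], [2, 2, 0, 3, 4, 3, 3, 0, 3, 0, 2, 0, 2, 0, 2, 0], [2, -26, 4, 0, -1, -2]⟩) (.leaf ⟨6, 6, true, [2, 2, 8, 4, 0, 8, 2, 2, 1, 2, 2, 8, 4, 0, 4, 8], [4, 0, 4, 2, 0, 2, 1, 2, 2, 4, 2, 0, 2, 4, 3, 0, 2], [-7, 3, 1, 0, -1]⟩)) (.node 1 (.leaf ⟨6, 6, false, [2, 0, 2, 0, 3, 0, 3, 0, 2, 0, 2, 0, 3, 0, 3, 0], [], [13, -6, -3, 0, 2]⟩) (.leaf ⟨6, 3, true, [4, 2, 0, 2, 0, 3, 4, 3, 0, 2, 0, 2, 0, 3, 8, 0], [8, 4, 2, 1, 2, 4, 2, 8, 2, 0, 2, 0], [-28, 43, 4, 0, -3]⟩))) (.node 2 (.node 1 (.leaf ⟨3, 6, true, [2, 8, 3, 0, 2, 4, 8, 4, 0, 2, 8, 4, 0, 4, 8], [8, 0, 2, 0, 3, 0, 3, 0, 2, 4, 2, 0, 3, 0, 3, 4], [58, -93, 1, 0, 3, -4]⟩) (.leaf ⟨6, 5, true, [0, 3, 4, 0, 8,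 3, 0, 3, 4, 8, 4, 8, 4, 2, 4, 3], [0, 8, 2, 0, 2, 4, 0, 4, 2, 4, 0, 4, 3], [-11, 19, -2, 0, 0, 1]⟩)) (.node 1 (.leaf ⟨5, 6, true, [3, 0, 2, 1, 2, 4, 3, 0, 3, 4, 8, 3, 4, 2, 0], [2, 4, 3, 4, 8, 4, 8, 4, 2, 0, 2, 8, 0, 4, 2, 0], [54, -95, 10, 0, 0, -7]⟩) (.node 1 (.leaf ⟨6, 6, false, [2, 0, 3, 0, 3, 4, 2, 0, 2, 0, 3], [], [-21, 53, -6, 0, 0, 4]⟩) (.leaf ⟨6, 6, true, [8, 0, 2, 4, 0, 2, 0, 2, 0, 2, 2, 4, 0, 2], [8, 3, 0, 2, 2, 4, 1, 2, 8, 4, 3, 8, 0, 2, 4], [-148, 226, -20, 0, -5, 18]⟩)))))))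
noncomputable def dF69 : BT Fct := (.node 17 (.node 8 (.node 4 (.node 2 (.node 1 (.leaf ⟨6, 6, true, [4, 8, 0, 4, 3, 0, 3, 8, 4, 0, 4, 3, 4, 3, 3], [0, 4, 8, 0, 3, 3, 8, 3, 1, 2, 4, 2, 8, 4, 8, 4], [-78, 78, -2, 0, -4, 5]⟩) (.leaf ⟨6, 6, false, [0, 2, 2, 4, 0, 3, 4, 8, 2, 1, 2, 4, 8, 3, 8, 3, 0], [], [103, -174, 21, 0, 0, -14]⟩)) (.node 1 (.leaf ⟨5, 6, true, [2, 4, 0, 2, 4, 8, 0, 2, 8, 0, 2, 4, 8, 4, 3, 4], [8, 0, 3, 8, 2, 8, 4, 2, 8, 1, 4, 3, 4, 8, 2, 4, 0], [6, 5, 1, 0, -1]⟩) (.leaf ⟨6, 6, true, [2, 0, 8, 4, 2, 0, 3, 4, 3, 3, 0, 2, 0, 2], [3, 8, 2, 0, 4, 8, 4, 3, 0, 2, 2, 8, 4, 3, 3, 4], [42, -107, 10, 0, 0, -7]⟩))) (.node 2 (.node 1 (.leaf ⟨2, 7, true, [3, 8, 1], [], []⟩) (.leaf ⟨7,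 7, false, [3, 4, 3, 4, 1, 2, 4, 2, 2, 0, 2, 4, 2], [], [66, -138, 18, 0, 0, -12]⟩)) (.node 1 (.leaf ⟨7, 7, false, [2, 0, 2, 0, 4, 3, 4, 2, 1, 2, 0, 3, 0, 3, 0, 2], [], [97, -237, 18, 0, 0, -12]⟩) (.leaf ⟨7, 7, false, [3, 0, 2, 2, 0, 3, 0, 3, 0], [], [-88, 191, -24, 0, 0, 16]⟩)))) (.node 4 (.node 2 (.node 1 (.leaf ⟨7, 7, false, [4, 3, 3, 4, 2, 4, 1, 4, 3, 3, 0, 2], [], [-60, 167, 0, 0, -3, 3]⟩) (.leaf ⟨7, 5, true, [3, 8, 4, 2, 1, 2, 8, 2, 4, 8, 3, 8, 2, 2, 4, 0], [3, 3, 8, 4, 2, 2, 1, 3, 8, 0, 2, 4, 8, 3, 0], [-87, 174, -25, 0, 0, 16]⟩)) (.node 1 (.leaf ⟨7, 5, true, [0, 2, 4, 0, 2, 0, 2, 4, 3, 0, 2, 4, 2], [4, 2, 0, 4, 3, 4, 2, 0, 3, 0, 3, 0, 2, 8, 0], [-73, 140, -19, 0, -1, 13]⟩) (.leaf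 ⟨7, 7, true, [4, 2, 0, 2, 0, 4, 2, 1, 2, 2, 4, 0, 2, 0, 3, 4, 2], [2, 4, 2, 2, 0, 2, 4, 3, 1, 3, 0, 2, 0, 2, 0, 3, 4], [-13, 40, -5, 0, 0, 3]⟩))) (.node 2 (.node 1 (.leaf ⟨7, 7, true, [4, 2, 0, 4, 3, 8, 4, 8, 4, 8, 3, 3, 0, 2, 0], [0, 3, 4, 2, 4, 8, 4, 8, 0, 2, 2, 0, 3, 8], [-53, 119, -8, 0, 0, 5]⟩) (.leaf ⟨7, 5, true, [3, 4, 2, 4, 3, 4, 8], [2, 2, 0, 2, 4, 1, 4, 2, 2, 8, 3, 3, 8, 3, 4, 3], [123, -334, 14, 0, 3, -13]⟩)) (.node 1 (.leaf ⟨5, 7, true, [8, 2, 2, 0, 2, 1, 3, 0, 3, 4, 2, 4, 8, 0, 3, 4], [8, 3, 4, 2, 4, 0, 4, 0], [-151, 385, -21, 0, -3, 17]⟩) (.node 1 (.leaf ⟨7, 3, true, [2, 0, 2, 4, 3, 1, 3, 8, 0, 2, 0, 2, 4, 0, 2, 0, 2], [8, 2, 2, 0, 3, 4, 2, 1, 2, 4, 3, 4, 0, 2, 4, 2], [82,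 -191, -1, 0, 5, -5]⟩) (.leaf ⟨3, 7, true, [3, 0, 2, 0, 3, 4, 3, 8, 3, 0, 3, 8, 0, 4, 8, 4], [3, 0, 2, 2, 0, 3, 1, 3, 8, 0, 2, 0, 2, 4, 3, 0, 3], [-67, 166, 3, 0, -5, 3]⟩)))))) (.node 8 (.node 4 (.node 2 (.node 1 (.leaf ⟨7, 7, true, [2, 2, 8, 0, 4, 8, 3, 4, 8, 0, 3, 8, 3, 8, 3, 4], [3, 4, 8, 4, 2, 8, 2, 1, 2, 4, 8, 3, 3, 4], [-70, 120, -20, 0, 2, 11]⟩) (.leaf ⟨7, 5, true, [1, 4, 2, 2, 0, 2, 4, 8], [4, 8, 2, 1, 4, 2, 8, 2, 4, 8, 3, 8, 4, 2, 0], [-99, 169, -28, 0, 2, 16]⟩)) (.node 1 (.leaf ⟨7, 7, false, [8, 1, 2, 8, 3, 8, 0], [], [4, 38, 0, 0, -2, 2]⟩) (.leaf ⟨7, 7, true, [4, 8, 3, 0, 3, 3, 4, 3, 0, 3, 0, 3, 0, 2, 0, 2], [8, 0, 4, 2, 1, 4, 2, 4, 3, 0, 2, 4, 0, 2, 0, 3], [202, -546, 40, 0,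 5, -32]⟩))) (.node 2 (.node 1 (.leaf ⟨6, 7, true, [8, 0, 4, 1, 4, 3, 0, 2, 4, 0, 2, 0, 2, 2], [3, 8, 4, 8, 2, 1, 2, 8, 2, 4, 2, 8, 0, 3, 4, 8, 2], [-38, 30, 0, 0, 1, -1]⟩) (.leaf ⟨7, 6, true, [0, 2, 4, 3, 0, 2, 2, 4, 0, 4, 8, 3, 4, 2], [2, 0, 4, 2, 2, 0, 3, 0, 2, 4, 0, 4, 8, 0], [195, -434, 17, 0, 2, -14]⟩)) (.node 1 (.leaf ⟨7, 7, true, [8, 4, 3, 0, 4, 2, 4, 8, 0, 4, 2, 0, 2, 8, 2, 4], [4, 8, 0, 3, 0, 3, 8, 3, 4, 3, 1, 2, 8, 3, 3, 4, 0], [12, -15, 4, 0, -2, -1]⟩) (.leaf ⟨7, 7, true, [2, 8, 0], [2, 8, 4, 2, 1, 2, 0, 3, 0, 3, 4, 8, 3, 8, 3, 0], [-109, 252, -23, 0, 2, 13]⟩)))) (.node 4 (.node 2 (.node 1 (.leaf ⟨7, 3, true, [3, 3, 8, 3, 3, 8, 1, 4, 2, 0, 3, 8, 0, 3], [4, 2, 1, 4, 3, 4, 8,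 2, 4, 8, 0, 2, 4, 0], [-23, 6, -22, 0, 4, 10]⟩) (.leaf ⟨3, 7, true, [3, 3, 4, 2, 4, 8, 4, 8, 2, 1, 2, 8, 4, 2], [2, 0, 8, 2, 0, 3, 4, 8, 0, 2, 2, 8, 2, 2], [20, 0, 21, 0, -4, -10]⟩)) (.node 1 (.leaf ⟨6, 7, true, [8, 3, 4, 0, 2, 4, 2, 0, 3, 4, 2], [4, 2, 0, 8, 4, 2, 8, 0, 3, 4, 8, 2, 4, 2, 2], [-46, 54, -3, 0, 1, 1]⟩) (.leaf ⟨7, 6, true, [8, 2, 2, 8, 4, 8, 3, 4, 8, 1, 2, 4, 8, 3, 3], [3, 4, 2, 1, 3, 4, 2, 2, 0, 2, 8], [18, -30, -22, 0, 2, 12]⟩))) (.node 2 (.node 1 (.leaf ⟨6, 7, true, [8, 4, 2, 8, 2, 2, 8, 2, 2, 8, 1, 2, 0], [3, 0, 8, 4, 2, 8, 1, 2, 8, 4, 2, 8, 4, 3], [-33, 121, 24, 0, -2, -14]⟩) (.leaf ⟨7, 6, true, [8, 3, 8, 2, 4, 8, 3, 4, 3, 1, 2, 4, 3, 4, 8, 4], [0, 3, 8, 4, 1, 2, 8,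 3, 3, 8, 3, 4, 8], [-33, 17, -43, 0, 2, 26]⟩)) (.node 1 (.leaf ⟨7, 3, true, [2, 2, 8, 0, 2, 1, 2, 2, 4, 8, 3, 8, 2, 2, 4, 0], [4, 2, 8, 2, 4, 8, 4, 8, 2, 4, 2, 0, 3, 8, 3], [189, -477, 8, 0, 8, -14]⟩) (.node 1 (.leaf ⟨3, 7, true, [0, 2, 8, 4, 2, 8, 2, 4, 1, 2, 8, 3, 3, 8, 4], [2, 4, 2, 0, 8, 2, 8, 4, 3, 1, 2, 0, 2, 8, 4, 2], [-159, 427, -3, 0, -8, 10]⟩) (.leaf ⟨6, 7, true, [8, 2, 0, 8, 4, 2, 2, 0, 3, 4, 0, 2, 4, 8, 0], [4, 8, 4, 8, 4, 3, 1, 2, 4, 0, 4, 3, 0, 3, 4], [-180, 248, -18, 0, 0, 12]⟩)))))))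
noncomputable def dF103 : BT Fct := (.node 17 (.node 8 (.node 4 (.node 2 (.node 1 (.leaf ⟨7, 7, true, [2, 8, 2, 2, 8, 2, 4, 2, 8, 4, 8, 3, 1, 3, 4], [3, 3, 4, 0, 8, 3, 4, 0, 2, 8, 4, 3, 4, 2, 0, 3], [-27, 25, -14, 0, -1, 10]⟩) (.leaf ⟨7, 7, true, [8, 2, 2, 8, 2, 1, 4, 8, 4, 3, 4, 8, 0, 2, 0, 2, 0], [4, 2, 1, 2, 8, 4, 8, 3, 4, 3, 8, 3, 3, 8, 3], [-96, 205, -29, 0, 1, 18]⟩)) (.node 1 (.leaf ⟨7, 7, true, [4, 2, 8, 2, 8, 2, 2, 8, 3, 8, 4, 3], [0, 4, 8, 2, 0, 8, 4, 3, 4, 8, 2, 1, 3, 4, 3, 8, 2], [287, -649, 58, 0, -1, -38]⟩) (.leaf ⟨7, 7, true, [3, 4, 3, 3, 0, 8, 4, 3, 0, 2, 8, 3, 3, 8, 4, 8], [2, 4, 8, 2, 8, 3, 3, 8, 3, 8, 6, 3, 4], [-569, 1314, -119, 0, 1, 78]⟩))) (.node 2 (.node 1 (.leaf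 ⟨5, 7, true, [8, 3, 8, 4, 2, 0, 3, 3, 8, 3, 8, 4, 0, 2, 4, 8, 0, 4], [2, 8, 4, 3, 8, 4, 3, 8, 4, 8, 1, 3, 8], [-107, 295, -18, 0, -5, 17]⟩) (.leaf ⟨7, 5, true, [0, 2, 4, 2, 0, 2, 2, 4, 1, 2, 8, 4, 8, 4, 2, 0, 3], [3, 4, 8, 4, 2, 0, 2, 2, 1, 2, 4, 2, 8, 0, 4, 2, 8, 3], [163, -500, 17, 0, 10, -22]⟩)) (.node 1 (.leaf ⟨7, 7, true, [8, 2, 2, 0, 2, 4, 3, 4, 0, 2, 0], [8, 0, 2, 4, 8, 0, 3, 8, 0, 4, 2], [-96, 168, -17, 0, -2, 13]⟩) (.leaf ⟨5, 7, true, [0, 2, 8, 3, 1, 3, 4, 8, 4, 8, 3, 4, 3, 3], [8, 3, 8, 2, 2, 4, 3, 1, 2, 4, 0, 2, 0, 2, 8, 0, 2], [-120, 239, -3, 0, -6, 8]⟩)))) (.node 4 (.node 2 (.node 1 (.leaf ⟨7, 7, true, [8, 4, 0, 8, 2, 4, 3, 4, 3, 0, 2, 4, 2, 0, 2], [2, 4, 2, 8, 1, 4, 8, 3,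 8, 0, 4, 2, 4, 8], [-470, 1117, -104, 0, 1, 68]⟩) (.leaf ⟨7, 6, true, [8, 2, 4, 8, 4, 3, 4, 8, 0, 2, 4, 0, 2, 8, 2], [3, 4, 3, 8, 1, 4, 2, 0, 3, 8, 0, 4, 3, 4, 2], [363, -831, 62, 0, -1, -41]⟩)) (.node 1 (.leaf ⟨6, 7, true, [8, 0, 2, 4, 2, 1, 2, 2, 0, 2, 8, 0, 4, 8, 4, 8, 2], [3, 8, 2, 2, 0, 3, 8, 0, 4, 2, 4, 8, 4, 3, 8], [-788, 1533, -144, 0, -1, 97]⟩) (.leaf ⟨5, 8, true, [8, 3, 8, 4, 2, 2, 8, 0, 4, 2, 0, 2, 2, 8, 0, 3, 4], [], []⟩))) (.node 2 (.node 1 (.leaf ⟨8, 7, true, [0, 2, 2, 0, 8, 4, 8, 4, 8, 3, 1, 3, 8, 4, 3, 0], [2, 0, 2, 4, 3, 1, 3, 4, 0, 4, 2, 8, 0, 4], [-103, 310, -11, 0, -4, 11]⟩) (.leaf ⟨8, 8, false, [2, 0, 3, 3, 0, 3, 4, 2, 0, 3, 4, 3, 0, 2], [], [284, -634, 60, 0, 3, -43]⟩))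 (.node 1 (.leaf ⟨8, 8, false, [2, 0, 3, 3, 0, 3, 4, 2, 2, 0, 3, 4, 3, 0], [], [-260, 612, -54, 0, 0, 36]⟩) (.node 1 (.leaf ⟨8, 7, true, [0, 3, 0, 3, 1, 3, 4, 3, 0, 2, 2, 0, 2, 0, 2], [4, 8, 2, 4, 8, 4, 2, 8, 2, 8, 0, 2, 8, 2], [-152, 381, -20, 0, -4, 17]⟩) (.leaf ⟨8, 8, true, [0, 2, 4, 2, 1, 3, 0, 3, 4, 0, 2, 4, 0, 4, 3, 3], [3, 3, 8, 0, 3, 8, 4, 2, 0, 3, 0, 3, 8, 4, 8, 4], [53, -77, 10, 0, -1, -6]⟩)))))) (.node 9 (.node 4 (.node 2 (.node 1 (.leaf ⟨8, 5, true, [4, 8, 4, 2, 0, 3, 8, 1, 3, 8, 3, 3, 0, 3, 0, 3, 4], [2, 8, 2, 8, 0, 2, 4, 2, 8, 4, 3, 4, 0, 2, 0], [74, -186, 17, 0, -3, -9]⟩) (.leaf ⟨8, 8, false, [4, 2, 0, 2, 2, 1, 2, 4, 3, 3, 8, 0, 2, 4, 0], [], [-53, 142, -12, 0, 2, 6]⟩)) (.node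 1 (.leaf ⟨8, 7, true, [2, 4, 0, 4, 8, 3, 4, 1, 4, 2, 0, 2, 2, 0, 2, 4], [0, 2, 4, 3, 0, 3, 4, 8, 4, 3, 0, 2, 8, 2, 4, 3, 0], [-372, 971, -74, 0, 3, 46]⟩) (.leaf ⟨7, 8, true, [3, 4, 8, 2, 4, 8, 1, 3, 0, 3, 8, 3, 8, 3], [4, 3, 4, 0, 2, 0, 3, 4, 0, 4, 2, 8, 4, 0, 4, 3], [394, -1024, 79, 0, -3, -50]⟩))) (.node 2 (.node 1 (.leaf ⟨8, 8, true, [8, 2, 8, 3, 8, 4, 3, 0, 3, 4, 3, 3, 8, 4, 2, 8], [8, 4, 3, 0, 4, 3, 1, 3, 4, 3, 3, 0, 2, 4, 0, 2], [218, -520, 43, 0, 1, -30]⟩) (.leaf ⟨8, 6, true, [2, 4, 2, 2, 8, 2, 4, 8, 1, 3, 4, 3, 8, 2, 8, 0], [8, 2, 8, 4, 8, 4, 0, 4, 3, 4, 0, 2, 4, 8], [837, -2031, 179, 0, -10, -110]⟩)) (.node 1 (.leaf ⟨6, 8, true, [3, 4, 3, 8, 1, 3, 4, 3, 8, 4, 8, 2, 2, 4, 8, 3,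 3], [3, 4, 2, 0, 2, 8, 2, 4, 1, 4, 2, 0, 3, 4, 8, 0], [-602, 1583, -123, 0, 8, 74]⟩) (.node 1 (.leaf ⟨7, 9, true, [2, 8, 1], [], []⟩) (.leaf ⟨9, 9, false, [4, 2, 1, 3, 4, 3, 0, 2, 2, 4], [], [-146, 358, -24, 0, -3, 19]⟩))))) (.node 4 (.node 2 (.node 1 (.leaf ⟨9, 9, false, [0, 2, 4, 0, 2, 0, 2, 0, 2], [], [79, -265, 24, 0, 4, -20]⟩) (.leaf ⟨9, 9, false, [4, 2, 2, 0, 8, 4, 8, 4, 8, 2, 1, 2, 8, 4, 3, 0], [], [118, -291, 24, 0, 0, -16]⟩)) (.node 1 (.leaf ⟨9, 7, true, [3, 3, 0, 3, 1, 3, 0, 2, 0, 2, 4, 2, 0, 2, 0], [2, 8, 4, 3, 8, 4, 2, 2, 8, 2, 0, 2, 2], [-72, 109, -18, -1, 2, 11]⟩) (.leaf ⟨9, 9, false, [0, 2, 8, 4, 2, 8, 2, 1, 3, 8, 3, 4, 8, 3], [], [-20, 125, -1, 1, -2, 1]⟩))) (.node 2 (.node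 1 (.leaf ⟨9, 7, true, [8, 4, 3, 0, 2, 8, 0, 2, 8, 2, 0, 2, 2, 4, 8, 4], [3, 4, 8, 4, 3, 0, 3, 0, 2, 8, 4, 8, 0, 2, 4], [30, -141, 6, -1, -1, -2]⟩) (.leaf ⟨9, 9, false, [1, 2, 0, 2, 4, 0, 4, 0, 4, 3, 0, 3], [], [-124, 378, -25, 1, 1, 14]⟩)) (.node 1 (.leaf ⟨9, 7, true, [8, 2, 2, 2, 4, 8, 0, 4, 2, 0, 2, 8, 2, 0, 2], [8, 4, 8, 3, 8, 4, 2, 2, 4, 1, 2, 8, 4, 2, 8, 2], [14, -50, 2, 0, -2]⟩) (.node 1 (.leaf ⟨9, 9, false, [4, 3, 0, 2, 8, 4, 8, 4, 2, 1, 2, 4, 0, 4, 8, 0], [], [-109, 288, -21, 0, 2, 12]⟩) (.leaf ⟨9, 9, true, [4, 3, 4, 0, 2, 8, 4, 3, 4, 1, 4, 3, 0, 2, 4, 8, 0], [8, 0, 2, 2, 0, 3, 4, 8, 3, 1, 3, 8, 4, 8, 4, 8], [163, -373, 28, 0, -1, -18]⟩)))))))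
noncomputable def dd : Dce := ⟨11, m_ts, [10, 9, 8, 4, 0], [6], [7], [0, 0, -1], [[2], [1, 2, 0]], [[2], [1, 2, 0]], [[1], [0, 1]], [[[], [], [], [], []], [[0], [], [1]], [[8], [8], [8]], [[6], [7]]], [[0, 0, 0, 1], [0, 0, 0, 0, 1], [0, 0, 0, 0, 0, 1], [0, 0, 1]], (.node 69 (.node 34 dF0 dF34) (.node 34 dF69 dF103)), [0, 3, 10, 17, 24, 41, 58, 73, 114, 127], []⟩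
theorem dd_c0 : dd.checks [⟨1, [], 0, 0, []⟩, ⟨1, [], 0, 0, []⟩, ⟨1, [], 0, 0, []⟩, ⟨0, [], 0, 0, []⟩, ⟨3, [6, 2, 5, 2, 2, 5, 5, 3, 3, 5, 7], 3, 0, [[], [0]]⟩, ⟨2, [6, 0, 7], 1, 1, [[], [3, 1, 1, 3, 1, 2, 0, 0, 3], [1, 3, 3, 1, 3, 0, 2, 2, 1]]⟩, ⟨2, [6, 1, 1, 7], 1, 0, [[], [3, 1, 1, 3, 3, 1, 3, 1, 2, 2, 0], [3, 1, 1, 3, 3, 1, 3, 1, 2, 2, 0]]⟩, ⟨2, [8, 6, 3, 1, 3, 1, 3, 3, 3, 5, 7], 2, 1, [[], [2, 0, 0, 3, 0, 2, 1, 1, 3, 1, 2, 0], [0, 3, 0, 0, 3, 1, 2, 0, 2, 1, 3, 1, 2, 1]]⟩, ⟨2, [6, 5, 3, 5, 2, 5, 0, 7], 2, 1, [[], [1, 2, 0, 2, 1, 1, 2, 1, 1, 2, 0, 2], [3, 1, 1, 2, 2, 0, 2, 2, 1, 1, 2, 0]]⟩, ⟨3, [17, 17], 3, 0, [[], [1, 2, 0, 2, 2, 1, 1, 2, 2, 0, 2, 1]]⟩, ⟨0, [], 0, 0, []⟩, ⟨3, [20, 8,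 8, 8, 18, 9, 9, 18, 8, 8, 21], 3, 0, [[], [3, 1, 2, 2, 2, 1, 3]]⟩, ⟨3, [20, 19, 8, 9, 19, 9, 21], 3, 0, [[], [1, 2, 1]]⟩, ⟨2, [20, 9, 9, 18, 15], 1, 2, [[], [1, 2, 1, 3, 1, 1, 2, 2, 0, 2, 0, 0], [2, 2, 0, 2, 1, 3, 1, 2, 2, 1, 1, 3]]⟩, ⟨3, [27, 21], 3, 0, [[], [2, 2, 0, 3, 3, 1, 1, 2, 0, 2, 0, 3]]⟩, ⟨2, [20, 13], 2, 0, [[], [2, 0, 2, 2, 0, 3, 1, 3, 0, 2, 1, 1, 3, 0], [1, 2, 0, 2, 2, 1, 1, 2, 2, 0, 2, 1]]⟩, ⟨3, [31, 21], 3, 0, [[], [0, 3, 1, 3, 3, 0, 0, 3, 3, 1, 3, 0]]⟩, ⟨0, [], 0, 0, []⟩, ⟨3, [34, 18, 9, 19, 9, 8, 18, 35], 3, 0, [[], [1, 2, 1]]⟩, ⟨3, [34, 8, 9, 19, 9, 18, 8, 35], 3, 0, [[], [2, 0, 3, 1]]⟩, ⟨2, [34, 21, 29, 20, 35], 0, 1, [[], [2, 2, 0, 0, 3, 1, 1, 2, 2, 0, 3, 1], [2, 2,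 0, 0, 3, 1, 1, 2, 2, 0, 3, 1], [2, 2, 0, 0, 3, 1, 1, 2, 2, 0, 3, 1], [2, 2, 0, 0, 3, 1, 1, 2, 2, 0, 3, 1]]⟩, ⟨2, [34, 9, 9, 18, 15], 1, 1, [[], [0, 0, 2, 2, 1, 3, 0], [3, 3, 1, 2, 0, 2, 2, 1, 3, 3, 1, 2, 0, 2]]⟩, ⟨2, [34, 21], 1, 0, [[], [3, 0, 0, 3, 0, 0, 3, 1, 1, 2, 0, 3, 0], [3, 0, 0, 3, 0, 0, 3, 1, 1, 2, 0, 3, 0]]⟩, ⟨3, [34, 11, 42], 2, 0, [[1, 3, 0, 0, 3, 1, 1, 3, 0, 0, 0, 3], [2, 0, 3, 1, 1, 3, 0, 0, 0, 3, 0, 2, 0], [0, 3, 3, 0, 2, 2, 0, 2, 2, 2, 0, 2]]⟩, ⟨0, [], 0, 0, []⟩, ⟨2, [48, 9, 18, 8, 19, 8, 8, 49], 1, 0, [[], [2, 0, 2, 2, 0, 2, 2, 1, 1, 2], [1, 3, 3, 1, 1, 2, 2, 0, 2, 1, 3, 3, 0]]⟩, ⟨3, [51, 51], 3, 0, [[], [3, 0, 0, 3, 3, 0, 0, 2, 0, 3, 1, 2, 1]]⟩, ⟨2, [48, 9, 18, 9, 15],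 2, 1, [[], [1, 3, 1, 1, 3, 0, 0, 3, 1, 1, 3], [2, 1, 1, 3, 3, 1, 2, 2, 1, 3, 3, 1]]⟩, ⟨3, [55, 9, 9, 18, 8, 19, 8, 49], 3, 0, [[], [0, 2, 2, 0, 3, 3, 0, 2, 2, 0, 0, 3]]⟩, ⟨2, [48, 18, 8, 8, 19, 8, 42], 2, 1, [[], [2, 2, 0, 0, 2, 0, 3, 1, 1, 2, 2], [3, 3, 1, 1, 3, 1, 2, 0, 3]]⟩, ⟨3, [59, 37, 37], 3, 0, [[], []]⟩, ⟨2, [52, 48, 18, 9, 9, 9, 15], 2, 1, [[], [0, 2, 2, 0, 0, 2, 0, 3, 0, 0, 0, 2, 1, 1], [0, 3, 1, 2, 0, 0, 0, 2, 1, 3, 0, 2, 0]]⟩, ⟨3, [63, 18, 8, 18, 9, 49], 3, 0, [[], [0, 2, 2, 2, 1, 1, 3, 1, 2, 0, 0, 0]]⟩, ⟨2, [36, 38, 34, 9, 9, 19, 8, 19, 8, 49], 2, 2, [[], [1, 1, 2, 2, 0, 0, 2, 0, 3, 3, 1], [0, 2, 1, 3, 1, 2, 0, 0, 3, 3, 0]]⟩, ⟨3, [50, 64, 56, 65, 66], 3, 0, [[], [1, 3, 3,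 0, 2, 1, 3, 1, 1, 3]]⟩, ⟨3, [49, 68], 3, 0, [[], []]⟩, ⟨3, [69, 66], 3, 0, [[], []]⟩, ⟨3, [69, 60], 3, 0, [[], []]⟩, ⟨3, [69, 48], 3, 0, [[], []]⟩, ⟨2, [23, 23, 20, 9, 70], 2, 2, [[], [0, 3, 1, 1, 3, 3, 1, 3, 0, 2, 0, 3, 0, 0], [3, 1, 3, 3, 1, 1, 2, 0, 0, 2, 2]]⟩, ⟨3, [79, 45], 3, 0, [[], [2, 1, 1, 3, 0, 0, 2, 1, 1, 2, 0, 0, 0, 3]]⟩, ⟨0, [], 0, 0, []⟩, ⟨3, [82, 8, 8, 19, 19, 9, 18, 83], 3, 0, [[], [2, 0, 3, 3, 0]]⟩, ⟨2, [82, 9, 18, 8, 19, 8, 8, 77], 1, 1, [[], [0, 3, 1, 2, 0, 3, 1, 1, 2, 0, 0, 2, 2, 0], [3, 1, 3, 0, 2, 0, 0, 2, 1, 3, 0, 2, 0, 3]]⟩, ⟨3, [87, 36, 37, 37, 37, 86], 3, 0, [[], [0, 3, 1, 2, 2, 0, 2, 1, 1, 3, 0, 0, 3]]⟩, ⟨3, [87, 38, 86], 3, 0, [[], [0, 3, 1, 2, 2, 0, 0, 2, 0,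 3]]⟩, ⟨2, [82, 77], 1, 2, [[], [2, 0, 2, 0, 0, 2, 1], [3, 1, 3, 1, 2, 0, 3]]⟩, ⟨3, [93, 47, 37, 39, 39, 37], 3, 0, [[], []]⟩, ⟨2, [82, 9, 18, 8, 19, 8, 8, 83], 1, 0, [[], [1, 1, 3, 0, 2, 2, 0, 0, 2, 2, 0, 0, 2], [1, 1, 2, 2, 1, 1, 3, 1, 2, 0, 0, 2, 1]]⟩, ⟨2, [90, 89, 82, 18, 8, 8, 19, 8, 21], 2, 1, [[], [2, 1, 1, 3, 3, 1, 2, 1, 1, 2, 2, 0], [1, 2, 0, 0, 0, 3, 3, 1, 1, 2, 1, 3]]⟩, ⟨3, [99, 25, 25], 3, 0, [[], []]⟩, ⟨2, [90, 82, 8, 19, 8, 35], 2, 1, [[], [3, 3, 0, 0, 0, 3, 0, 0, 3, 1, 1, 2], [3, 1, 2, 0, 2, 1, 3, 1, 2, 0, 2, 2, 0]]⟩, ⟨3, [103, 37, 38, 37, 39], 3, 0, [[], []]⟩, ⟨3, [82, 8, 14, 19, 8, 83], 2, 0, [[3, 1, 2, 1, 3, 0, 2, 0, 3, 1, 3, 3, 1], [0, 0, 2, 0, 0, 0, 3, 1, 1, 3, 3, 0,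 2, 0], [3, 1, 2, 1, 3, 0, 2, 0, 3, 1, 3, 3, 1]]⟩, ⟨2, [90, 89, 87, 36, 38, 38, 37, 46, 86], 2, 2, [[], [2, 2, 0, 3, 1, 2, 0, 0, 0, 3, 1, 1], [2, 2, 0, 3, 1, 2, 0, 0, 0, 3, 1, 1]]⟩, ⟨2, [94, 36, 38, 38, 36, 86], 2, 2, [[], [2, 0, 0, 3, 1, 2, 0, 0, 3, 1, 1, 2, 2], [3, 0, 0, 2, 0, 0, 3, 3]]⟩, ⟨3, [111, 107, 97], 3, 0, [[], [2, 2, 0, 3, 3, 1, 3, 1, 2, 0, 3, 1]]⟩, ⟨2, [89, 91, 106, 100, 23, 23, 28, 81, 22, 98], 2, 2, [[], [2, 0, 2, 0, 0, 2, 2, 0, 3, 3, 1, 2, 0, 3], [1, 3, 1, 2, 1, 3, 0, 2, 2, 0, 0, 0]]⟩, ⟨0, [], 0, 0, []⟩, ⟨3, [116, 19, 19, 9, 9, 9, 19, 117], 3, 0, [[], [3, 0, 2, 2, 0, 3, 3, 0, 2, 2, 0, 3, 0, 0]]⟩, ⟨2, [116, 8, 18, 9, 19, 8, 18, 8, 117], 1, 1, [[], [0, 0, 3, 0, 0, 0, 3, 3,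 1, 2, 0, 2], [0, 0, 2, 2, 0, 0, 2, 1, 1, 3, 0, 2]]⟩, ⟨2, [116, 8, 19, 8, 18, 9, 9, 117], 1, 0, [[], [1, 3, 0, 0, 2, 1, 1, 3, 0, 0, 0, 2, 0], [3, 3, 0, 2, 0, 0, 3, 0, 2, 0, 3, 1, 3]]⟩, ⟨3, [123, 123], 3, 0, [[], [1, 3, 3, 1, 2, 1, 1, 2, 2, 0, 0, 3, 0]]⟩, ⟨2, [124, 118, 124, 116, 19, 9, 18, 9, 77], 2, 1, [[], [1, 2, 0, 2, 2, 0, 2, 1, 1, 2, 1, 1], [0, 3, 3, 1, 2, 2, 2, 1, 1, 3, 1]]⟩, ⟨3, [127, 36, 39, 37, 37, 38, 37], 3, 0, [[], []]⟩, ⟨2, [116, 19, 9, 9, 9, 83], 2, 1, [[], [2, 0, 0, 2, 1, 1, 3, 1, 1, 2], [2, 1, 1, 2, 0, 0, 0, 2, 0, 3, 0, 2, 0]]⟩, ⟨3, [131, 84, 88, 91], 3, 0, [[], []]⟩, ⟨3, [132, 85, 90, 90, 85, 133], 3, 0, [[], [3, 0, 2, 0, 0, 2, 1, 1, 3, 0, 2, 0]]⟩, ⟨2, [118, 124, 118, 134,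 118, 124, 128, 36, 36, 38, 37, 39, 37, 126], 1, 0, [[], [3, 1, 2, 2, 1, 3, 3, 1, 2], [0, 2, 1, 3, 1, 1, 3, 0, 2, 1, 3, 0]]⟩, ⟨2, [124, 118, 134, 124, 134, 118, 128, 36, 38, 37, 39, 36, 36, 39, 46, 126], 2, 2, [[], [2, 1, 1, 3, 3, 1, 1, 2, 0, 2], [2, 0, 3, 1, 1, 2, 2, 0, 0]]⟩, ⟨3, [128, 37, 37, 38, 36, 46, 74, 36, 36, 126], 2, 0, [[0, 3, 1, 3, 0, 2, 1, 3, 3, 0, 2, 2, 0], [1, 3, 1, 1, 3, 0, 0, 3, 0, 0, 3, 3], [3, 1, 2, 1, 3, 1, 2, 2, 1, 1, 3]]⟩, ⟨2, [84, 112, 85, 114, 90, 89, 85, 130], 1, 2, [[], [3, 1, 3, 0, 0, 2, 0, 0, 2, 1, 1, 3, 3], [3, 0, 2, 0, 0, 2, 1, 3, 1, 2, 0, 0]]⟩, ⟨2, [142, 90, 89, 85, 130], 1, 1, [[], [3, 1, 1, 2, 0, 0, 2, 2, 0, 2, 0, 0], [2, 0, 2, 2, 0, 0, 0, 2, 1]]⟩, ⟨0, [],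 0, 0, []⟩, ⟨3, [146, 22, 24, 24, 24, 23, 147], 3, 0, [[], [0, 0, 2, 0, 0, 2, 1, 3, 1, 2, 2, 0]]⟩, ⟨3, [146, 25, 80, 24, 32, 24, 80, 33, 23, 147], 3, 0, [[], [0, 3, 3, 1, 2, 2, 2, 0, 2, 1, 3, 0]]⟩, ⟨3, [146, 25, 25, 22, 25, 147], 3, 0, [[], [1, 2, 2, 1, 3]]⟩, ⟨3, [146, 24, 33, 29, 81, 22, 81, 33, 22, 147], 3, 0, [[], [2, 1, 1, 3, 1, 1, 2, 1, 1, 3, 1, 1]]⟩, ⟨2, [146, 29, 101], 1, 1, [[], [2, 1, 3, 0, 2, 2, 1, 3, 0, 2, 0, 0, 2], [2, 1, 3, 3, 1, 2, 2, 0, 3, 1, 2]]⟩, ⟨2, [146, 101], 1, 2, [[], [0, 2, 2, 1, 1, 2, 2, 0, 2, 2, 2, 0], [1, 2, 2, 0, 3, 1, 1, 3, 0, 0, 3]]⟩, ⟨2, [146, 29, 147], 1, 0, [[], [3, 3, 1, 3, 0, 2, 1, 3, 1, 2, 0, 3, 3], [3, 3, 1, 3, 0, 2, 1, 3, 1, 2, 0, 3, 3]]⟩, ⟨2, [150,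 146, 23, 81, 22, 22, 147], 2, 1, [[], [2, 1, 3, 0, 0, 2, 2, 0, 0, 3, 0], [0, 3, 0, 0, 3, 3, 1, 2, 2, 1, 3, 3]]⟩, ⟨2, [151, 154, 146, 22, 80, 25, 25, 101], 2, 1, [[], [0, 3, 3, 1, 2, 2, 1, 1, 3, 1, 2, 2, 0], [0, 0, 0, 2, 2, 0, 2, 1, 3, 1, 2, 0]]⟩, ⟨3, [165, 89, 84, 90, 85], 3, 0, [[], []]⟩, ⟨2, [154, 146, 80, 22, 81, 29, 44], 2, 1, [[], [0, 2, 2, 1, 1, 3, 3, 1, 2, 1, 1], [1, 3, 1, 1, 2, 0, 3, 0, 0, 2, 1, 1]]⟩, ⟨3, [169, 37, 38], 3, 0, [[], []]⟩, ⟨2, [148, 146, 33, 29, 24, 22, 25, 147], 2, 1, [[], [0, 2, 0, 0, 3, 0, 2, 0, 3, 0, 0, 0, 2], [1, 1, 3, 0, 2, 1, 3, 3, 1, 3, 0, 0]]⟩, ⟨2, [146, 33, 29, 101], 2, 1, [[], [0, 2, 2, 0, 0, 0, 2, 1, 1, 2, 0, 0, 2, 0], [2, 2, 2, 1, 3, 3, 0, 0, 0]]⟩, ⟨3,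 [175, 107, 156], 3, 0, [[], [0, 0, 0, 2, 2, 0, 3, 0, 2, 1, 3, 0]]⟩, ⟨2, [176, 166, 88, 156], 2, 2, [[], [2, 1, 1, 3, 3, 1, 3, 3], [2, 0, 3, 0, 2, 0, 3, 1, 2, 0, 2, 0]]⟩, ⟨2, [134, 140, 142, 84, 91, 84, 106, 156], 2, 2, [[], [3, 3, 1, 3, 1, 2], [3, 3, 1, 3, 1, 1, 3, 0, 0, 2, 1, 3, 0, 2]]⟩, ⟨3, [181, 155, 150], 3, 0, [[], []]⟩, ⟨2, [148, 159, 112, 89, 156], 2, 2, [[], [1, 2, 0, 2, 2, 2, 0, 2, 1, 3, 1], [3, 3, 1, 3, 3, 0, 0, 2, 0, 3, 1, 1]]⟩, ⟨3, [185, 151], 3, 0, [[], []]⟩, ⟨2, [154, 157, 113, 107, 93], 2, 1, [[], [2, 0, 0, 2, 1, 3, 3, 0], [0, 2, 0, 0, 0, 3, 1, 1, 3, 0, 2, 2]]⟩, ⟨3, [189, 47, 37, 39, 39], 3, 0, [[], []]⟩, ⟨2, [134, 140, 132, 89, 91, 106, 158], 2, 2, [[], [2, 0, 3, 1, 2,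 1, 3, 0, 2, 2, 1, 3], [0, 2, 2, 2, 0, 0, 3, 0, 2, 2, 0]]⟩, ⟨3, [193, 155, 152], 3, 0, [[], []]⟩, ⟨2, [124, 141, 134, 141, 182, 150, 176, 162], 2, 2, [[], [1, 2, 0, 0, 3, 1, 1, 3, 3, 1, 3, 0], [1, 3, 3, 0, 0, 2, 0, 3, 0, 0, 0, 2, 2, 2]]⟩, ⟨3, [197, 149], 3, 0, [[], []]⟩, ⟨2, [154, 176, 162, 177, 169], 2, 1, [[], [0, 0, 0, 2, 0, 3, 1, 3, 3, 0, 2], [1, 1, 2, 2, 0, 3, 3, 0, 2, 2, 0, 0, 3]]⟩, ⟨3, [201, 37, 37, 39, 36, 38, 37], 3, 0, [[], []]⟩, ⟨2, [118, 140, 194, 148, 176, 162], 2, 2, [[], [1, 1, 2, 2, 0, 2, 2, 2, 0, 2], [3, 3, 0, 2, 2, 0, 0, 2, 2, 0, 0, 2, 1, 1]]⟩, ⟨2, [153, 148, 151, 166, 112, 88, 164], 2, 2, [[], [1, 1, 3, 3, 1, 3, 0, 2, 2, 1, 3, 1, 2], [2, 2, 0, 0, 3, 3, 1, 3, 3, 0, 0]]⟩,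 ⟨3, [207, 149, 152, 150, 149], 3, 0, [[], []]⟩, ⟨2, [151, 151, 166, 89, 112, 164], 2, 2, [[], [2, 2, 0, 3, 3, 1, 2, 2, 1, 3, 3, 1, 1], [2, 2, 0, 2, 2, 0, 3, 1, 2, 0, 2, 1]]⟩, ⟨3, [211, 152, 151, 151], 3, 0, [[], []]⟩, ⟨2, [88, 106, 112, 85, 164, 153, 150, 153, 211], 2, 1, [[], [0, 0, 2, 1, 1, 3, 3, 0, 0, 3, 3], [2, 1, 3, 1, 1, 2, 0, 3, 0, 0, 3, 1, 2]]⟩, ⟨3, [215, 177, 155], 3, 0, [[], []]⟩, ⟨2, [190, 39, 36, 168], 1, 2, [[], [0, 2, 0, 0, 2, 0, 3, 0, 0, 2, 0], [1, 3, 0, 0, 3, 0, 0, 3, 1, 1, 3, 0]]⟩, ⟨2, [104, 39, 36, 168], 1, 1, [[], [1, 2, 1, 1, 3, 3, 0, 2, 2, 0, 3, 0, 0], [0, 3, 0, 2, 0, 0, 2, 1, 1, 3]]⟩, ⟨2, [148, 151, 154, 176, 206, 150, 150, 153, 150, 178], 2, 2, [[], [2, 0, 2, 0,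 3, 1, 3, 0, 2, 2, 2], [3, 0, 0, 2, 0, 3, 3, 1, 2, 1]]⟩, ⟨2, [152, 151, 151, 154, 180, 141, 135, 125, 119, 137], 2, 1, [[], [1, 1, 3, 3, 1, 1, 3, 0, 0, 3, 0, 0, 0], [3, 1, 2, 0, 0, 0, 3, 0, 2, 1]]⟩, ⟨3, [225, 141, 141, 141, 141, 125], 3, 0, [[], []]⟩, ⟨0, [], 0, 0, []⟩, ⟨2, [228, 89, 91, 89, 84, 167], 1, 1, [[], [0, 2, 2, 0, 3, 3, 1, 1, 2, 2], [0, 3, 1, 1, 2, 2, 0, 3, 0, 0, 3]]⟩, ⟨3, [231, 155, 148, 148, 150, 153, 151, 230], 3, 0, [[], [1, 2, 0, 3, 0, 2, 0, 3, 0, 0]]⟩, ⟨3, [231, 151, 151, 149, 230], 3, 0, [[], [1, 2, 0, 3, 0, 0, 3, 3, 1, 2, 1, 1, 2, 0]]⟩, ⟨2, [228, 167], 1, 2, [[], [1, 2, 2, 0, 0, 0, 2, 1, 3, 0, 2, 0], [1, 1, 2, 0, 0, 3, 1, 1, 2]]⟩, ⟨2, [228, 89, 91, 89, 84, 229], 1, 0,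 [[], [1, 2, 2, 1, 1, 3, 0, 0, 3, 1, 1, 3], [2, 2, 0, 2, 2, 2, 1, 1, 3, 1, 2, 0, 0, 3]]⟩, ⟨2, [232, 234, 228, 85, 89, 113, 107, 115], 2, 1, [[], [1, 1, 2, 2, 0, 2, 1, 3, 3, 0, 0, 3], [2, 0, 2, 2, 0, 0, 3, 3, 0, 0, 2]]⟩, ⟨3, [241, 113, 90, 89, 84, 229], 3, 0, [[], [0, 3, 1, 2, 0, 3, 1, 3, 0, 2, 2, 0, 3]]⟩, ⟨2, [243, 234, 243, 243, 232, 243, 228, 85, 113, 89, 167], 2, 1, [[], [2, 0, 3, 0, 2, 1, 3, 3, 0, 2, 2, 1], [3, 0, 0, 0, 2, 1, 3, 1, 1, 3, 3, 1, 1]]⟩, ⟨3, [245, 153, 149], 3, 0, [[], []]⟩, ⟨2, [234, 228, 113, 84, 90, 229], 2, 1, [[], [3, 1, 3, 0, 0, 2, 1, 1, 2, 1, 1], [1, 2, 0, 3, 3, 1, 2, 1, 1, 2, 1, 1]]⟩, ⟨2, [242, 234, 242, 242, 242, 234, 242, 228, 133], 2, 1, [[], [1, 2, 2, 0, 0, 2,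 1, 3, 0, 0, 0, 2], [3, 1, 2, 1, 1, 3, 0, 2, 1, 3, 3, 0, 0, 2]]⟩, ⟨3, [251, 135, 140, 140, 135, 125], 3, 0, [[], []]⟩, ⟨0, [], 0, 0, []⟩, ⟨3, [254, 152, 150, 154, 151, 255], 3, 0, [[], [0, 0, 2, 1, 3, 1, 2, 1, 3, 0, 0, 0]]⟩, ⟨3, [254, 177, 153, 153, 152, 177, 255], 3, 0, [[], [2, 1, 1, 2, 0]]⟩, ⟨3, [254, 149, 176, 153, 150, 177, 255], 3, 0, [[], [3, 1, 2, 2, 1, 1, 3, 0, 0, 3]]⟩, ⟨2, [254, 187, 173, 151, 185], 0, 1, [[], [2, 0, 2, 0, 0, 2, 1, 1, 2, 0], [2, 2, 0, 0, 2, 2, 1, 3, 3, 1, 2, 1, 1], [3, 1, 2, 2, 2, 1, 3, 0, 2, 0, 0], [3, 1, 2, 2, 2, 1, 3, 0, 2, 0, 0]]⟩, ⟨3, [263, 151, 255], 3, 0, [[], [3, 3, 0, 0, 3, 3, 0, 0, 2, 0]]⟩, ⟨2, [264, 254, 185], 1, 1, [[], [0, 0, 0, 2, 1, 3, 0, 2, 0,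 3, 1], [3, 1, 1, 2, 2, 0, 3, 1, 3, 0, 2, 2]]⟩, ⟨3, [267, 151, 255], 3, 0, [[], [0, 2, 1, 3, 1, 2, 0, 3, 0, 0, 0]]⟩, ⟨2, [260, 254, 151, 155, 151, 151, 209], 2, 1, [[], [1, 1, 2, 2, 2, 1, 3, 0, 2, 1], [1, 2, 0, 3, 0, 0, 2, 0, 3, 0, 0, 0, 3]]⟩, ⟨3, [271, 151, 255], 3, 0, [[], [0, 0, 2, 1, 1, 2, 0, 0, 0, 3, 1]]⟩, ⟨2, [256, 272, 254, 177, 150, 255], 2, 1, [[], [1, 3, 3, 0, 2, 2, 1, 1, 3, 0, 0], [2, 0, 0, 2, 2, 1, 3, 1, 2, 1]]⟩] 0 138 = true := by decide +kernel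
theorem dd_n0 : dd.nodeB m_ns 138 0 c_l0.O [0, 1, 2, 3, 5, 6, 7, 8, 9] 0 [0, 2, 4] [6] [2, 0, 2, 1, 0, 1, 2, 1, 0, 2, 1, 0, 1, 2, 1, 0, 1, 0, 1, 2] = true := by decide +kernel
theorem dd_n1 : dd.nodeB m_ns 138 0 c_l0.O [0, 1, 2, 3, 5, 6, 7, 8, 9] 1 [8, 18] [7, 10, 11, 12, 14, 20, 34, 43, 76, 82, 116] [0, 0, 1, 0, 0, 1, 0, 0, 0, 1, 0, 0, 1, 0, 0, 0, 1, 0, 0, 0] = true := by decide +kernel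
theorem dd_n2 : dd.nodeB m_ns 138 0 c_l0.O [0, 1, 2, 3, 5, 6, 7, 8, 9] 2 [22, 24, 28, 32, 80] [21, 45, 100, 146] [2, 3, 1, 0, 1, 1, 0, 1, 4, 1, 0, 1, 0, 1, 1] = true := by decide +kernel
theorem dd_n3 : dd.nodeB m_ns 138 0 c_l0.O [0, 1, 2, 3, 5, 6, 7, 8, 9] 3 [36, 38, 46] [35, 40, 42, 44, 74, 72, 70, 87, 94, 104, 128, 170, 190, 202] [2, 0, 1, 2, 0, 1, 0, 2, 0, 1, 2, 0, 0, 1, 0, 2, 0, 1] = true := by decide +kernel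
theorem dd_n5 : dd.nodeB m_ns 138 0 c_l0.O [0, 1, 2, 3, 5, 6, 7, 8, 9] 5 [84, 88, 90, 106, 112] [83, 86, 92, 96, 98, 102, 108, 114, 132, 142, 157, 159, 166, 214, 220, 228] [4, 3, 1, 0, 1, 4, 0, 1, 0, 4, 1, 0, 1] = true := by decide +kernel
theorem dd_n6 : dd.nodeB m_ns 138 0 c_l0.O [0, 1, 2, 3, 5, 6, 7, 8, 9] 6 [118, 124, 134, 140] [117, 120, 121, 122, 126, 130, 136, 138, 143, 144, 180, 192, 196, 204, 226, 252] [3, 0, 2, 1, 0, 2, 1, 3, 2, 0, 2, 3, 2] = true := by decide +kernel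
theorem dd_n7 : dd.nodeB m_ns 138 0 c_l0.O [0, 1, 2, 3, 5, 6, 7, 8, 9] 7 [148, 150, 152, 154, 176] [147, 156, 158, 160, 162, 164, 168, 172, 178, 182, 184, 186, 188, 194, 198, 200, 205, 206, 208, 210, 212, 216, 218, 221, 222, 224, 231, 237, 246, 254] [4, 2, 0, 3, 2, 0, 2, 1, 2, 2, 3] = true := by decide +kernel
theorem dd_n8 : dd.nodeB m_ns 138 0 c_l0.O [0, 1, 2, 3, 5, 6, 7, 8, 9] 8 [232, 234, 242] [229, 230, 236, 238, 244, 248, 250] [2, 0, 1, 2, 0, 2, 1, 2, 2, 2, 0, 2, 2, 2, 2, 2, 2, 1] = true := by decide +kernel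
theorem dd_n9 : dd.nodeB m_ns 138 0 c_l0.O [0, 1, 2, 3, 5, 6, 7, 8, 9] 9 [256, 258, 260, 264, 268, 272] [255, 274] [4, 3, 5, 1, 4, 1, 3, 5, 1, 4, 5, 1, 3, 1, 0, 5] = true := by decide +kernel
theorem dd_up {K Γ A : Type*} [Group K] [Group Γ] [CommGroup A] {X : Ctx K Γ A} (hy : dd.Hyp X m_ns) : dd.Upto X 138 :=
  ((Dce.Upto.zero).step hy dd_c0)
theorem dd_all {K Γ A : Type*} [Group K] [Group Γ] [CommGroup A] {X : Ctx K Γ A} (hy : dd.Hyp X m_ns) (hA : ∀ a, X.ι a ∈ X.H)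
    (hL : ∀ h, X.φ h 0 = 0 → h ∈ gw X.γ dd.LW) (hO : ∀ h, (c_l0.O).testBit (X.φ h 0) = true) :
    ∀ d ∈ [0, 1, 2, 3, 5, 6, 7, 8, 9], dd.Closed X [0, 1, 2, 3, 5, 6, 7, 8, 9] d := by
  simp only [List.forall_mem_cons, List.not_mem_nil, IsEmpty.forall_iff, implies_true, and_true]
  exact ⟨Dce.nodeB_sound hy (dd_up hy) hA (by decide +kernel) hL hO dd_n0,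
    Dce.nodeB_sound hy (dd_up hy) hA (by decide +kernel) hL hO dd_n1,
    Dce.nodeB_sound hy (dd_up hy) hA (by decide +kernel) hL hO dd_n2,
    Dce.nodeB_sound hy (dd_up hy) hA (by decide +kernel) hL hO dd_n3,
    Dce.nodeB_sound hy (dd_up hy) hA (by decide +kernel) hL hO dd_n5,
    Dce.nodeB_sound hy (dd_up hy) hA (by decide +kernel) hL hO dd_n6,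
    Dce.nodeB_sound hy (dd_up hy) hA (by decide +kernel) hL hO dd_n7,
    Dce.nodeB_sound hy (dd_up hy) hA (by decide +kernel) hL hO dd_n8,
    Dce.nodeB_sound hy (dd_up hy) hA (by decide +kernel) hL hO dd_n9⟩

end Cfsg.Agent.HNC
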